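import Groth.Agent.H81.SymProd.Quot
import Groth.Agent.Lib.SchQuot.FlatBaseChange

/-!
Base change of symmetric products of flat morphisms.
-/

universe u

open CategoryTheory CategoryTheory.Limits AlgebraicGeometry TopologicalSpace
open scoped TensorProduct

namespace Groth.Agent.H81.SymProd.BaseChange

open Groth.Agent.H81.SymProd.Chart Groth.Agent.H81.SymProd.Ring Groth.Agent.Lib

theorem isAffineOpen_of_isPullback {X Y S T : Scheme.{u}} {f : T ⟶ S} {g : Y ⟶ X} {iX : X ⟶ S} {iY : Y ⟶ T}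
    (H : IsPullback g iY iX f) {US : S.Opens} {UT : T.Opens} {UX : X.Opens} (hUST : UT ≤ f ⁻¹ᵁ US)
    (hUSX : UX ≤ iX ⁻¹ᵁ US) (hS : IsAffineOpen US) (hT : IsAffineOpen UT) (hX : IsAffineOpen UX) :
    IsAffineOpen (g ⁻¹ᵁ UX ⊓ iY ⁻¹ᵁ UT) := by
  have : IsAffine _ := hS
  have : IsAffine _ := hT
  have : IsAffine _ := hX
  exact .of_isIso (Scheme.Hom.isPullback_resLE H hUST hUSX rfl).isoPullback.hom

section Good

variable {X Y : Scheme.{u}} {G : Type u} [Group G] {ρ : G →* Aut X} {p : X ⟶ Y}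

/-- The sections over an affine open are the invariant ones as soon as this holds for an affine open around it. -/
theorem good_of_le [Finite G] [IsAffineHom p] (hinv : ∀ g : G, (ρ g).hom ≫ p = p) {U V : Y.Opens}
    (hU : IsAffineOpen U) (hV : IsAffineOpen V) (hVU : V ≤ U) (hinj : Function.Injective (p.app U).hom)
    (hrange : ∀ s, (∀ g : G, SchQuot.IsQuot.pull hinv g U s = s) → s ∈ Set.range (p.app U).hom) :
    Function.Injective (p.app V).hom ∧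
      ∀ s, (∀ g : G, SchQuot.IsQuot.pull hinv g V s = s) → s ∈ Set.range (p.app V).hom := by
  have hX : IsPullback (𝟙 X) p p (𝟙 Y) := IsPullback.of_horiz_isIso ⟨by simp⟩
  have hVU' : V ≤ (𝟙 Y) ⁻¹ᵁ U := hVU
  have hXle : p ⁻¹ᵁ V ≤ (𝟙 X) ⁻¹ᵁ (p ⁻¹ᵁ U) := fun x hx => hVU hx
  have hUY : p ⁻¹ᵁ V = (𝟙 X) ⁻¹ᵁ (p ⁻¹ᵁ U) ⊓ p ⁻¹ᵁ V := (inf_eq_right.mpr hXle).symm
  have hpo := (isIso_pushoutSection_iff hX hVU' le_rfl hUY).mp
    (isIso_pushoutSection_of_isAffineOpen hX hVU' le_rfl hUY hU hV (hU.preimage p))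
  let := (p.app U).hom.toAlgebra
  let := ((𝟙 Y : Y ⟶ Y).appLE U V hVU').hom.toAlgebra
  let := (p.app V).hom.toAlgebra
  let := ((𝟙 X : X ⟶ X).appLE (p ⁻¹ᵁ U) (p ⁻¹ᵁ V) hXle).hom.toAlgebra
  let := ((p.app V).hom.comp ((𝟙 Y : Y ⟶ Y).appLE U V hVU').hom).toAlgebra
  have : IsScalarTower Γ(Y, U) Γ(Y, V) Γ(X, p ⁻¹ᵁ V) := .of_algebraMap_eq fun _ => rfl
  have hw : p.app U ≫ (𝟙 X : X ⟶ X).appLE (p ⁻¹ᵁ U) (p ⁻¹ᵁ V) hXle =
      (𝟙 Y : Y ⟶ Y).appLE U V hVU' ≫ p.app V := by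
    simp only [Scheme.Hom.app_eq_appLE, Scheme.Hom.appLE_comp_appLE, hX.w]
  have : IsScalarTower Γ(Y, U) Γ(X, p ⁻¹ᵁ U) Γ(X, p ⁻¹ᵁ V) :=
    .of_algebraMap_eq fun b => congr($(hw.symm) b)
  have : Algebra.IsPushout Γ(Y, U) Γ(Y, V) Γ(X, p ⁻¹ᵁ U) Γ(X, p ⁻¹ᵁ V) := by
    refine CommRingCat.isPushout_iff_isPushout.mp ?_
    show IsPushout ((𝟙 Y : Y ⟶ Y).appLE U V hVU') (p.app U) (p.app V)
      ((𝟙 X : X ⟶ X).appLE (p ⁻¹ᵁ U) (p ⁻¹ᵁ V) hXle)
    simp only [Scheme.Hom.app_eq_appLE]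
    exact hpo.flip
  have : Module.Flat Γ(Y, U) Γ(Y, V) := (𝟙 Y : Y ⟶ Y).flat_appLE hU hV hVU'
  have hcb : ∀ (g : G) (W : Y.Opens) b, SchQuot.IsQuot.pull hinv g W (p.app W b) = p.app W b := fun g W b => by
    rw [← CommRingCat.comp_apply, SchQuot.IsQuot.pull, Scheme.Hom.app_eq_appLE, Scheme.Hom.appLE_comp_appLE]
    simp only [hinv g]
  let σ : G → (Γ(X, p ⁻¹ᵁ U) →ₐ[Γ(Y, U)] Γ(X, p ⁻¹ᵁ U)) := fun g =>
    { __ := (SchQuot.IsQuot.pull hinv g U).hom, commutes' := hcb g U }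
  let σ' : G → (Γ(X, p ⁻¹ᵁ V) →ₐ[Γ(Y, V)] Γ(X, p ⁻¹ᵁ V)) := fun g =>
    { __ := (SchQuot.IsQuot.pull hinv g V).hom, commutes' := hcb g V }
  refine SchQuot.FlatBaseChange.range_of_fixed (B := Γ(Y, U)) (B' := Γ(Y, V)) (A := Γ(X, p ⁻¹ᵁ U))
    (A' := Γ(X, p ⁻¹ᵁ V)) hinj σ σ' (fun g a => ?_) hrange
  show SchQuot.IsQuot.pull hinv g V ((𝟙 X : X ⟶ X).appLE (p ⁻¹ᵁ U) (p ⁻¹ᵁ V) hXle a) =
    (𝟙 X : X ⟶ X).appLE (p ⁻¹ᵁ U) (p ⁻¹ᵁ V) hXle (SchQuot.IsQuot.pull hinv g U a)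
  rw [← CommRingCat.comp_apply, ← CommRingCat.comp_apply, SchQuot.IsQuot.pull, SchQuot.IsQuot.pull,
    Scheme.Hom.appLE_comp_appLE, Scheme.Hom.appLE_comp_appLE]
  simp only [Category.comp_id, Category.id_comp]

end Good

variable {X S S' Y : Scheme.{u}} (f : X ⟶ S) [Flat f] (d : ℕ) {q : SymProd.fibPow f d ⟶ Y} {g : Y ⟶ S}
  (hq : SymProd.IsSymProd f d q g) (b : S' ⟶ S)
  (c : SymProd.fibPow (pullback.snd f b) d ⟶ SymProd.fibPow f d)
  (hcπ : ∀ i : Fin d, c ≫ pr f d i = pr (pullback.snd f b) d i ≫ pullback.fst f b)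
  (hcb : c ≫ base f d = base (pullback.snd f b) d ≫ b)
  (q' : SymProd.fibPow (pullback.snd f b) d ⟶ pullback g b)
  (hq'₁ : q' ≫ pullback.fst g b = c ≫ q) (hq'₂ : q' ≫ pullback.snd g b = base (pullback.snd f b) d)

include hq hcπ hcb hq'₁ hq'₂

omit [Flat f] in
theorem inv (σ : ULift.{u} (Equiv.Perm (Fin d))) :
    (SymProd.permActU (pullback.snd f b) d σ).hom ≫ q' = q' := by
  rw [SymProd.permActU_hom]
  refine pullback.hom_ext ?_ ?_
  · rw [Category.assoc, hq'₁, ← Category.assoc, Quot.perm_comp f d b c hcπ hcb, Category.assoc,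
      show SymProd.permHom f d σ.down ≫ q = q from hq.isQuot.inv σ]
  · rw [Category.assoc, hq'₂, SymProd.permHom_base]

set_option maxHeartbeats 1000000 in
/-- Over the product of a chart with an affine open of the base the sections are the invariant ones. -/
theorem good (hd : 0 < d) {U : X.Opens} (hU : IsAffineOpen U) {V : S.Opens} (hV : IsAffineOpen V)
    (hUV : U ≤ f ⁻¹ᵁ V) {W' : Y.Opens} (hW'a : IsAffineOpen W') (hW' : q ⁻¹ᵁ W' = box f d U) {V' : S'.Opens}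
    (hV' : IsAffineOpen V') (hV'V : V' ≤ b ⁻¹ᵁ V) :
    IsAffineOpen (pullback.fst g b ⁻¹ᵁ W' ⊓ pullback.snd g b ⁻¹ᵁ V') ∧
      IsAffineOpen (q' ⁻¹ᵁ (pullback.fst g b ⁻¹ᵁ W' ⊓ pullback.snd g b ⁻¹ᵁ V')) ∧
      Function.Injective (q'.app (pullback.fst g b ⁻¹ᵁ W' ⊓ pullback.snd g b ⁻¹ᵁ V')).hom ∧
      ∀ s, (∀ σ, SchQuot.IsQuot.pull (inv f d hq b c hcπ hcb q' hq'₁ hq'₂) σ
          (pullback.fst g b ⁻¹ᵁ W' ⊓ pullback.snd g b ⁻¹ᵁ V') s = s) →
        s ∈ Set.range (q'.app (pullback.fst g b ⁻¹ᵁ W' ⊓ pullback.snd g b ⁻¹ᵁ V')).hom := by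
  have hWV := Quot.le_base_of_chart f d hq hd hUV hW'
  have hbox := isAffineOpen_box f d hU hV hUV hd
  have hbV := box_le_base f d hd hUV
  have HY : IsPullback (pullback.fst g b) (pullback.snd g b) g b := IsPullback.of_hasPullback g b
  have HP := Quot.isPullback_fibPow f d b c hcπ hcb
  set O := pullback.fst g b ⁻¹ᵁ W' ⊓ pullback.snd g b ⁻¹ᵁ V' with hO
  have hpre : q' ⁻¹ᵁ O = c ⁻¹ᵁ box f d U ⊓ base (pullback.snd f b) d ⁻¹ᵁ V' := by
    rw [hO, Scheme.Hom.preimage_inf, ← Scheme.Hom.comp_preimage, ← Scheme.Hom.comp_preimage, hq'₁, hq'₂,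
      Scheme.Hom.comp_preimage, hW']
  refine ⟨isAffineOpen_of_isPullback HY hV'V hWV hV hV' hW'a,
    hpre ▸ isAffineOpen_of_isPullback HP hV'V hbV hV hV' hbox, ?_⟩
  have hpoE := (isIso_pushoutSection_iff HY hV'V hWV hO).mp
    (isIso_pushoutSection_of_isAffineOpen HY hV'V hWV hO hV hV' hW'a)
  have hpoC := (isIso_pushoutSection_iff HP hV'V hbV hpre).mp
    (isIso_pushoutSection_of_isAffineOpen HP hV'V hbV hpre hV hV' hbox)
  have hEle : O ≤ pullback.fst g b ⁻¹ᵁ W' := inf_le_left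
  have hOV' : O ≤ pullback.snd g b ⁻¹ᵁ V' := inf_le_right
  have hCle : q' ⁻¹ᵁ O ≤ c ⁻¹ᵁ box f d U := hpre.le.trans inf_le_left
  have hCV' : q' ⁻¹ᵁ O ≤ base (pullback.snd f b) d ⁻¹ᵁ V' := hpre.le.trans inf_le_right
  let := (f.appLE V U hUV).hom.toAlgebra
  let := (g.appLE V W' hWV).hom.toAlgebra
  let := (b.appLE V V' hV'V).hom.toAlgebra
  let := ((base f d).appLE V (box f d U) hbV).hom.toAlgebra
  let := ((pullback.snd g b).appLE V' O hOV').hom.toAlgebra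
  let := ((pullback.fst g b).appLE W' O hEle).hom.toAlgebra
  let := ((base (pullback.snd f b) d).appLE V' (q' ⁻¹ᵁ O) hCV').hom.toAlgebra
  let := (c.appLE (box f d U) (q' ⁻¹ᵁ O) hCle).hom.toAlgebra
  let : Algebra Γ(S, V) Γ(pullback g b, O) :=
    (((pullback.snd g b).appLE V' O hOV').hom.comp (b.appLE V V' hV'V).hom).toAlgebra
  let : Algebra Γ(S, V) Γ(SymProd.fibPow (pullback.snd f b) d, q' ⁻¹ᵁ O) :=
    (((base (pullback.snd f b) d).appLE V' (q' ⁻¹ᵁ O) hCV').hom.comp (b.appLE V V' hV'V).hom).toAlgebra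
  have : IsScalarTower Γ(S, V) Γ(S', V') Γ(pullback g b, O) := .of_algebraMap_eq fun _ => rfl
  have : IsScalarTower Γ(S, V) Γ(S', V') Γ(SymProd.fibPow (pullback.snd f b) d, q' ⁻¹ᵁ O) :=
    .of_algebraMap_eq fun _ => rfl
  have : IsScalarTower Γ(S, V) Γ(Y, W') Γ(pullback g b, O) := .of_algebraMap_eq fun r => congr($(hpoE.w.symm) r)
  have : IsScalarTower Γ(S, V) Γ(SymProd.fibPow f d, box f d U)
      Γ(SymProd.fibPow (pullback.snd f b) d, q' ⁻¹ᵁ O) := .of_algebraMap_eq fun r => congr($(hpoC.w.symm) r)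
  have : Algebra.IsPushout Γ(S, V) Γ(S', V') Γ(Y, W') Γ(pullback g b, O) :=
    CommRingCat.isPushout_iff_isPushout.mp hpoE.flip
  have : Algebra.IsPushout Γ(S, V) Γ(S', V') Γ(SymProd.fibPow f d, box f d U)
      Γ(SymProd.fibPow (pullback.snd f b) d, q' ⁻¹ᵁ O) :=
    CommRingCat.isPushout_iff_isPushout.mp hpoC.flip
  have : Module.Flat Γ(S, V) Γ(X, U) := f.flat_appLE hV hU hUV
  obtain ⟨Φ, L, hΦ, hΦr, hperm, hL, hΦL, hT⟩ := Quot.exists_algHom f d hq hd hU hV hUV hW' rfl rfl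
  let ΦA : (⨂[Γ(S, V)] _ : Fin d, Γ(X, U)) ≃ₐ[Γ(S, V)] Γ(SymProd.fibPow f d, box f d U) :=
    AlgEquiv.ofBijective { __ := Φ, commutes' := hΦr } hΦ
  let κ : Γ(Y, W') →ₐ[Γ(S, V)] Γ(SymProd.fibPow f d, box f d U) :=
    { __ := (q.appLE W' (box f d U) hW'.ge).hom
      commutes' := fun r => by
        show q.appLE W' (box f d U) hW'.ge (g.appLE V W' hWV r) = (base f d).appLE V (box f d U) hbV r
        rw [← CommRingCat.comp_apply, Scheme.Hom.appLE_comp_appLE]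
        simp only [hq.over] }
  let κ' : Γ(pullback g b, O) →ₐ[Γ(S', V')] Γ(SymProd.fibPow (pullback.snd f b) d, q' ⁻¹ᵁ O) :=
    { __ := (q'.app O).hom
      commutes' := fun r => by
        show q'.app O ((pullback.snd g b).appLE V' O hOV' r) =
          (base (pullback.snd f b) d).appLE V' (q' ⁻¹ᵁ O) hCV' r
        rw [← CommRingCat.comp_apply, Scheme.Hom.app_eq_appLE, Scheme.Hom.appLE_comp_appLE]
        simp only [hq'₂] }
  have hstC : ∀ σ : ULift.{u} (Equiv.Perm (Fin d)),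
      box f d U ≤ (SymProd.permActU f d σ).hom ⁻¹ᵁ box f d U := fun σ => (box_stable f d U σ.down).ge
  let σC : ULift.{u} (Equiv.Perm (Fin d)) →
      (Γ(SymProd.fibPow f d, box f d U) →ₐ[Γ(S, V)] Γ(SymProd.fibPow f d, box f d U)) := fun σ =>
    { __ := ((SymProd.permActU f d σ).hom.appLE (box f d U) (box f d U) (hstC σ)).hom
      commutes' := fun r => by
        show (SymProd.permActU f d σ).hom.appLE (box f d U) (box f d U) (hstC σ)
          ((base f d).appLE V (box f d U) hbV r) = (base f d).appLE V (box f d U) hbV r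
        rw [← CommRingCat.comp_apply, Scheme.Hom.appLE_comp_appLE]
        simp only [SymProd.permActU_hom, SymProd.permHom_base] }
  let σC' : ULift.{u} (Equiv.Perm (Fin d)) → (Γ(SymProd.fibPow (pullback.snd f b) d, q' ⁻¹ᵁ O) →ₐ[Γ(S', V')]
      Γ(SymProd.fibPow (pullback.snd f b) d, q' ⁻¹ᵁ O)) := fun σ =>
    { __ := (SchQuot.IsQuot.pull (inv f d hq b c hcπ hcb q' hq'₁ hq'₂) σ O).hom
      commutes' := fun r => by
        show SchQuot.IsQuot.pull (inv f d hq b c hcπ hcb q' hq'₁ hq'₂) σ O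
          ((base (pullback.snd f b) d).appLE V' (q' ⁻¹ᵁ O) hCV' r) = _
        rw [← CommRingCat.comp_apply, SchQuot.IsQuot.pull, Scheme.Hom.appLE_comp_appLE]
        simp only [SymProd.permActU_hom, SymProd.permHom_base]
        rfl }
  let T := LinearMap.range L.toLinearMap
  let eL := LinearEquiv.ofInjective L.toLinearMap hL
  have hκ : κ.toLinearMap = ΦA.toLinearMap ∘ₗ T.subtype ∘ₗ eL.toLinearMap :=
    LinearMap.ext fun y => (hΦL y).symm
  have hinjΦ : Function.Injective (ΦA.toLinearMap.lTensor Γ(S', V')) :=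
    (LinearEquiv.lTensor Γ(S', V') ΦA.toLinearEquiv).injective
  refine Quot.range_of_lTensor κ κ' (fun e => ?_) σC σC' (fun σ a => ?_) ?_ fun z hz => ?_
  · show q'.app O ((pullback.fst g b).appLE W' O hEle e) =
      c.appLE (box f d U) (q' ⁻¹ᵁ O) hCle (q.appLE W' (box f d U) hW'.ge e)
    rw [← CommRingCat.comp_apply, ← CommRingCat.comp_apply, Scheme.Hom.app_eq_appLE, Scheme.Hom.appLE_comp_appLE,
      Scheme.Hom.appLE_comp_appLE]
    simp only [hq'₁]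
  · show SchQuot.IsQuot.pull (inv f d hq b c hcπ hcb q' hq'₁ hq'₂) σ O (c.appLE (box f d U) (q' ⁻¹ᵁ O) hCle a) =
      c.appLE (box f d U) (q' ⁻¹ᵁ O) hCle ((SymProd.permActU f d σ).hom.appLE (box f d U) (box f d U) (hstC σ) a)
    rw [← CommRingCat.comp_apply, ← CommRingCat.comp_apply, SchQuot.IsQuot.pull, Scheme.Hom.appLE_comp_appLE,
      Scheme.Hom.appLE_comp_appLE]
    simp only [SymProd.permActU_hom, Quot.perm_comp f d b c hcπ hcb]
  · rw [hκ, LinearMap.lTensor_comp, LinearMap.lTensor_comp]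
    exact hinjΦ.comp ((TensorBC.lTensor_subtype_injective T hT).comp
      (LinearEquiv.lTensor Γ(S', V') eL).injective)
  · obtain ⟨w, rfl⟩ := (LinearEquiv.lTensor Γ(S', V') ΦA.toLinearEquiv).surjective z
    obtain ⟨x, rfl⟩ := TensorBC.mem_range_of_fixed T hT (z := w) fun σ => hinjΦ <| by
      refine Eq.trans ?_ (hz ⟨σ.symm⟩)
      show ΦA.toLinearMap.lTensor _ _ = (σC ⟨σ.symm⟩).toLinearMap.lTensor _ (ΦA.toLinearMap.lTensor _ w)
      rw [← LinearMap.lTensor_comp_apply, ← LinearMap.lTensor_comp_apply]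
      congr 1
      refine congrArg _ (LinearMap.ext fun t => ?_)
      have := hperm σ.symm t
      rw [Equiv.symm_symm] at this
      exact this.symm
    refine ⟨(LinearEquiv.lTensor Γ(S', V') eL).symm x, ?_⟩
    rw [hκ, LinearMap.lTensor_comp_apply, LinearMap.lTensor_comp_apply]
    exact congrArg _ (congrArg _ ((LinearEquiv.lTensor Γ(S', V') eL).apply_symm_apply x))

theorem isSymProd (hAF : SymProd.IsAF f) (hd : 0 < d) :
    SymProd.IsSymProd (pullback.snd f b) d q' (pullback.snd g b) := by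
  refine ⟨?_, hq'₂⟩
  let hinv := inv f d hq b c hcπ hcb q' hq'₁ hq'₂
  have cover : ∀ y' : ↥(pullback g b), ∃ O : (pullback g b).Opens, y' ∈ O ∧ IsAffineOpen O ∧
      IsAffineOpen (q' ⁻¹ᵁ O) ∧ Function.Injective (q'.app O).hom ∧
        ∀ s, (∀ σ, SchQuot.IsQuot.pull hinv σ O s = s) → s ∈ Set.range (q'.app O).hom := by
    intro y'
    obtain ⟨_, ⟨V, hV, rfl⟩, hy, -⟩ := S.isBasis_affineOpens.exists_subset_of_mem_open
      (Set.mem_univ (g (pullback.fst g b y'))) isOpen_univ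
    obtain ⟨U, hU, hUV, -, W', hyW, hW'a, hW'⟩ :=
      Chart.exists_symProd_chart f d hAF hd q g hq (pullback.fst g b y') hV hy
    have hb : b (pullback.snd g b y') ∈ V := by
      rw [← Scheme.Hom.comp_apply, ← pullback.condition, Scheme.Hom.comp_apply]
      exact hy
    obtain ⟨_, ⟨V', hV', rfl⟩, hy', hV'V⟩ := S'.isBasis_affineOpens.exists_subset_of_mem_open
      (show pullback.snd g b y' ∈ b ⁻¹ᵁ V from hb) (b ⁻¹ᵁ V).isOpen
    exact ⟨pullback.fst g b ⁻¹ᵁ W' ⊓ pullback.snd g b ⁻¹ᵁ V', ⟨hyW, hy'⟩, good f d hq b c hcπ hcb q' hq'₁ hq'₂ hd hU hV hUV hW'a hW' hV' hV'V⟩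
  choose O hyO hOa hOpre hinj hrange using cover
  have : IsAffineHom q' := isAffineHom_of_forall_exists_isAffineOpen _ fun y' => ⟨O y', hyO y', hOa y', hOpre y'⟩
  refine SchQuot.Local.isQuot_of_basis
    (B := {V : (pullback g b).Opens | IsAffineOpen V ∧ ∃ y', V ≤ O y'}) ?_ hinv
    (fun V ⟨hV, y', h⟩ => (good_of_le hinv (hOa y') hV h (hinj y') (hrange y')).1)
    (fun V ⟨hV, y', h⟩ => (good_of_le hinv (hOa y') hV h (hinj y') (hrange y')).2)
  refine Opens.isBasis_iff_nbhd.mpr fun {W x} hx => ?_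
  obtain ⟨_, ⟨V, hV, rfl⟩, hxV, hVW⟩ := (pullback g b).isBasis_affineOpens.exists_subset_of_mem_open
    (show x ∈ W ⊓ O x from ⟨hx, hyO x⟩) (W ⊓ O x).isOpen
  exact ⟨V, ⟨hV, x, fun z hz => (hVW hz).2⟩, hxV, fun z hz => (hVW hz).1⟩

end Groth.Agent.H81.SymProd.BaseChange
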