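import Groth.Prelude.Def_SymProd
import Mathlib.AlgebraicGeometry.Limits
import Groth.Agent.Lib.GrpdQuot.Invariant
import Groth.Agent.Lib.SchQuot.IsQuot
import Groth.Agent.Lib.SchQuot.Restrict

/-!
Affine charts of fibre powers and of symmetric products.
-/

universe u

open CategoryTheory CategoryTheory.Limits AlgebraicGeometry TopologicalSpace

namespace Groth.Agent.H81.SymProd.Chart

open Groth.Agent.Lib

variable {X S : Scheme.{u}} (f : X ⟶ S) (d : ℕ)

/-- The projections. -/
noncomputable abbrev pr (i : Fin d) : SymProd.fibPow f d ⟶ X := WidePullback.π (fun _ : Fin d => f) i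

/-- The base. -/
noncomputable abbrev base : SymProd.fibPow f d ⟶ S := WidePullback.base (fun _ : Fin d => f)

/-- The open `⋂ pr_i⁻¹ U`. -/
noncomputable def box (U : X.Opens) : (SymProd.fibPow f d).Opens :=
  ⟨⋂ i : Fin d, (pr f d i) ⁻¹' (U : Set X), isOpen_iInter_of_finite fun i => U.2.preimage (pr f d i).continuous⟩

theorem mem_box {U : X.Opens} {x : SymProd.fibPow f d} : x ∈ box f d U ↔ ∀ i, pr f d i x ∈ U :=
  Set.mem_iInter

theorem perm_apply (σ : Equiv.Perm (Fin d)) (x : SymProd.fibPow f d) (i : Fin d) :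
    pr f d i (SymProd.permHom f d σ x) = pr f d (σ.symm i) x := by
  rw [← Scheme.Hom.comp_apply, SymProd.permHom_π]

theorem box_stable (U : X.Opens) (σ : Equiv.Perm (Fin d)) :
    (SymProd.permHom f d σ) ⁻¹ᵁ box f d U = box f d U := by
  ext x
  change SymProd.permHom f d σ x ∈ box f d U ↔ x ∈ box f d U
  simp only [mem_box, perm_apply]
  exact ⟨fun h i => by simpa using h (σ i), fun h i => h _⟩

theorem isAffineOpen_box {U : X.Opens} (hU : IsAffineOpen U) {V : S.Opens} (hV : IsAffineOpen V)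
    (hUV : U ≤ f ⁻¹ᵁ V) (hd : 0 < d) : IsAffineOpen (box f d U) := by
  have hb : Set.range ((box f d U).ι ≫ base f d) ⊆ Set.range V.ι := by
    rw [Scheme.Opens.range_ι]
    rintro _ ⟨z, rfl⟩
    have := hUV ((mem_box f d).1 z.2 ⟨0, hd⟩)
    change base f d ((box f d U).ι z) ∈ V
    rw [show base f d = pr f d ⟨0, hd⟩ ≫ f from (WidePullback.π_arrow _ _).symm]
    exact this
  have hp : ∀ i, Set.range ((box f d U).ι ≫ pr f d i) ⊆ Set.range U.ι := fun i => by
    rw [Scheme.Opens.range_ι]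
    rintro _ ⟨z, rfl⟩
    exact (mem_box f d).1 z.2 i
  let fU : U.toScheme ⟶ V.toScheme := f.resLE V U hUV
  let a : (box f d U).toScheme ⟶ widePullback V.toScheme (fun _ : Fin d => U.toScheme) (fun _ => fU) :=
    WidePullback.lift (IsOpenImmersion.lift V.ι _ hb) (fun i => IsOpenImmersion.lift U.ι _ (hp i))
      (fun i => by
        rw [← cancel_mono V.ι, Category.assoc, Scheme.Hom.resLE_comp_ι, IsOpenImmersion.lift_fac_assoc,
          IsOpenImmersion.lift_fac, Category.assoc, WidePullback.π_arrow])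
  let b₀ : widePullback V.toScheme (fun _ : Fin d => U.toScheme) (fun _ => fU) ⟶ SymProd.fibPow f d :=
    WidePullback.lift (WidePullback.base _ ≫ V.ι) (fun i => WidePullback.π _ i ≫ U.ι) (fun i => by
      rw [Category.assoc, ← Scheme.Hom.resLE_comp_ι f hUV, ← Category.assoc, WidePullback.π_arrow])
  have hb₀ : Set.range b₀ ⊆ Set.range (box f d U).ι := by
    rw [Scheme.Opens.range_ι]
    rintro _ ⟨z, rfl⟩
    refine (mem_box f d).2 fun i => ?_
    rw [← Scheme.Hom.comp_apply, WidePullback.lift_π]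
    exact (WidePullback.π (fun _ : Fin d => fU) i z).2
  let b := IsOpenImmersion.lift (box f d U).ι b₀ hb₀
  have hbfac : b ≫ (box f d U).ι = b₀ := IsOpenImmersion.lift_fac _ _ _
  have hab : a ≫ b = 𝟙 _ := by
    rw [← cancel_mono (box f d U).ι, Category.assoc, hbfac, Category.id_comp]
    refine WidePullback.hom_ext _ _ _ (fun i => ?_) ?_
    · rw [Category.assoc, WidePullback.lift_π, WidePullback.lift_π_assoc, IsOpenImmersion.lift_fac]
    · rw [Category.assoc, WidePullback.lift_base, WidePullback.lift_base_assoc, IsOpenImmersion.lift_fac]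
  have hba : b ≫ a = 𝟙 _ := by
    refine WidePullback.hom_ext _ _ _ (fun i => ?_) ?_
    · rw [← cancel_mono U.ι, Category.assoc, Category.assoc, WidePullback.lift_π_assoc, IsOpenImmersion.lift_fac,
        reassoc_of% hbfac, WidePullback.lift_π, Category.id_comp]
    · rw [← cancel_mono V.ι, Category.assoc, Category.assoc, WidePullback.lift_base_assoc, IsOpenImmersion.lift_fac,
        reassoc_of% hbfac, WidePullback.lift_base, Category.id_comp]
  have : ∀ i, IsAffine ((WidePullbackShape.wideCospan V.toScheme (fun _ : Fin d => U.toScheme)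
      (fun _ => fU)).obj i) := fun i => by
    cases i
    · exact hV
    · exact hU
  have : IsAffine (widePullback V.toScheme (fun _ : Fin d => U.toScheme) (fun _ => fU)) :=
    Scheme.isAffine_of_isLimit _ (limit.isLimit _)
  have : IsIso a := ⟨b, hab, hba⟩
  exact IsAffine.of_isIso a

theorem exists_chart (hAF : SymProd.IsAF f) (hd : 0 < d) (x : SymProd.fibPow f d) {V : S.Opens}
    (hV : base f d x ∈ V) :
    ∃ U : X.Opens, IsAffineOpen U ∧ U ≤ f ⁻¹ᵁ V ∧ x ∈ box f d U := by
  classical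
  have hT : ∀ i, f (pr f d i x) = base f d x := fun i => by
    rw [← Scheme.Hom.comp_apply, WidePullback.π_arrow]
  obtain ⟨U₀, hU₀, hTU⟩ := hAF (base f d x) (Finset.univ.image fun i => pr f d i x)
    (fun y hy => by obtain ⟨i, -, rfl⟩ := Finset.mem_image.1 hy; exact hT i)
  obtain ⟨r, hr, hxr⟩ := GrpdQuot.exists_basicOpen_le_of_finite hU₀ (Set.range fun i => pr f d i x)
    (Set.finite_range _) (W := f ⁻¹ᵁ V)
    (by rintro _ ⟨i, rfl⟩; show f (pr f d i x) ∈ V; rw [hT]; exact hV)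
    (by rintro _ ⟨i, rfl⟩; exact hTU _ (Finset.mem_image_of_mem _ (Finset.mem_univ i)))
  exact ⟨X.basicOpen r, hU₀.basicOpen r, hr, (mem_box f d).2 fun i => hxr ⟨i, rfl⟩⟩

theorem exists_affineOpen_orbit (hAF : SymProd.IsAF f) (x : SymProd.fibPow f d) :
    ∃ W : (SymProd.fibPow f d).Opens, IsAffineOpen W ∧ ∀ σ : Equiv.Perm (Fin d), SymProd.permHom f d σ x ∈ W := by
  rcases Nat.eq_zero_or_pos d with rfl | hd
  · obtain ⟨W, hW, hx, -⟩ := exists_isAffineOpen_mem_and_subset
      (show x ∈ (⊤ : (SymProd.fibPow f 0).Opens) from trivial)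
    refine ⟨W, hW, fun σ => ?_⟩
    rw [Subsingleton.elim σ 1, SymProd.permHom_one]
    exact hx
  obtain ⟨V, hV, hxV, -⟩ := exists_isAffineOpen_mem_and_subset (show base f d x ∈ (⊤ : S.Opens) from trivial)
  obtain ⟨U, hU, hUV, hx⟩ := exists_chart f d hAF hd x hxV
  exact ⟨box f d U, isAffineOpen_box f d hU hV hUV hd, fun σ => by
    have := (box_stable f d U σ).symm ▸ hx
    exact this⟩

theorem exists_symProd_chart {Y : Scheme.{u}} (hAF : SymProd.IsAF f) (hd : 0 < d)
    (q : SymProd.fibPow f d ⟶ Y) (g : Y ⟶ S) (hq : SymProd.IsSymProd f d q g) (y : Y) {V : S.Opens}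
    (hV : IsAffineOpen V) (hy : g y ∈ V) :
    ∃ U : X.Opens, IsAffineOpen U ∧ U ≤ f ⁻¹ᵁ V ∧ IsAffineOpen (box f d U) ∧
      ∃ W' : Y.Opens, y ∈ W' ∧ IsAffineOpen W' ∧ q ⁻¹ᵁ W' = box f d U := by
  obtain ⟨x, rfl⟩ := SchQuot.IsQuot.surjective hq.isQuot y
  obtain ⟨U, hU, hUV, hx⟩ := exists_chart f d hAF hd x (V := V) (by
    rw [show base f d = q ≫ g from hq.over.symm, Scheme.Hom.comp_apply]; exact hy)
  have haff := isAffineOpen_box f d hU hV hUV hd
  let W : Set (SymProd.fibPow f d) := box f d U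
  let W' : Y.Opens := ⟨(q '' Wᶜ)ᶜ, (SchQuot.IsQuot.isClosedMap hq.isQuot _ (box f d U).2.isClosed_compl).isOpen_compl⟩
  have hpre : q ⁻¹ᵁ W' = box f d U := by
    ext z
    change q z ∈ (q '' Wᶜ)ᶜ ↔ z ∈ box f d U
    constructor
    · exact fun h => by_contra fun hz => h ⟨z, hz, rfl⟩
    · rintro hz ⟨z', hz', e⟩
      obtain ⟨σ, rfl⟩ := (SchQuot.IsQuot.apply_eq_iff hq.isQuot z z').1 e.symm
      apply hz'
      rw [SymProd.permActU_hom]
      exact (show z ∈ (SymProd.permHom f d σ.down) ⁻¹ᵁ box f d U by rw [box_stable]; exact hz)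
  refine ⟨U, hU, hUV, haff, W', ?_, SchQuot.Restrict.isAffineOpen hq.isQuot (hpre ▸ haff), hpre⟩
  change x ∈ q ⁻¹ᵁ W'
  rw [hpre]
  exact hx

end Groth.Agent.H81.SymProd.Chart
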