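import Groth.Agent.Lib.PolLaw.FlatSym
import Mathlib.LinearAlgebra.TensorProduct.Vanishing
import Mathlib.RingTheory.TensorProduct.DirectLimitFG
import Mathlib.LinearAlgebra.TensorProduct.Basis

/-!
Symmetric tensors of a flat module commute with tensoring by an arbitrary module.
-/

universe u

open scoped TensorProduct

namespace Groth.Agent.H81.SymProd.TensorBC

open Groth.Agent.Lib.PolLaw Groth.Agent.Lib.PolLaw.FlatTensor Groth.Agent.Lib.PolLaw.FlatSym
open Groth.Agent.Lib.PolLaw.Coeff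

variable {A : Type u} [CommRing A] {d : ℕ} {M : Type u} [AddCommGroup M] [Module A M]

/-- A zero sum of pure tensors comes from relations among generators of the left hand factor. -/
theorem exists_of_sum_eq_zero {N : Type u} [AddCommGroup N] [Module A N] {l : ℕ} (a : Fin l → M)
    (b : Fin l → N) (h : ∑ i, a i ⊗ₜ[A] b i = 0) :
    ∃ (r : ℕ) (s : Fin r → M) (k : ℕ) (c : Fin l ⊕ Fin r → Fin k → A) (w : Fin k → N),
      (∀ i, Sum.elim b (fun _ => 0) i = ∑ j, c i j • w j) ∧ ∀ j, ∑ i, c i j • Sum.elim a s i = 0 := by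
  let P : Submodule A M := Submodule.span A (Set.range a)
  have hP : P.FG := Submodule.fg_span (Set.finite_range a)
  let a' : Fin l → P := fun i => ⟨a i, Submodule.subset_span ⟨i, rfl⟩⟩
  obtain ⟨Q, hPQ, hQ, hQ0⟩ := TensorProduct.eq_zero_of_fg_of_subtype_eq_zero (N := N) hP
    (t := ∑ i, a' i ⊗ₜ[A] b i) (by simpa [a', map_sum] using h)
  obtain ⟨r, s, hs⟩ := Submodule.fg_iff_exists_fin_generating_family.1 hQ
  let m : Fin l ⊕ Fin r → Q :=
    Sum.elim (fun i => Submodule.inclusion hPQ (a' i)) fun i => ⟨s i, hs ▸ Submodule.subset_span ⟨i, rfl⟩⟩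
  have hm : Submodule.span A (Set.range m) = ⊤ := by
    refine Submodule.map_injective_of_injective Q.injective_subtype ?_
    rw [Submodule.map_span, Submodule.map_top, Submodule.range_subtype, ← Set.range_comp]
    refine le_antisymm (Submodule.span_le.2 ?_) (hs.symm.le.trans (Submodule.span_mono ?_))
    · rintro _ ⟨i, rfl⟩
      exact (m i).2
    · rintro _ ⟨i, rfl⟩
      exact ⟨Sum.inr i, rfl⟩
  obtain ⟨k, c, w, h1, h2⟩ := TensorProduct.vanishesTrivially_of_sum_tmul_eq_zero A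
    (n := Sum.elim b fun _ => 0) hm (by simpa [m, map_sum] using hQ0)
  refine ⟨r, s, k, c, w, h1, fun j => ?_⟩
  have h3 := congrArg Q.subtype (h2 j)
  rw [map_sum, map_zero] at h3
  refine (Finset.sum_congr rfl fun i _ => ?_).trans h3
  rcases i with i | i <;> rfl

variable {B : Type u} [AddCommGroup B] [Module A B] [Module.Flat A B]

/-- A relation in `M ⊗ B^⊗d` holds after a map to a free module of finite rank. -/
theorem exists_kill_coeff {n : ℕ} (f : (Fin n → A) →ₗ[A] B) (z : M ⊗[A] (⨂[A] _ : Fin d, (Fin n → A)))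
    (hz : (tm f).lTensor M z = 0) :
    ∃ (m : ℕ) (g : (Fin n → A) →ₗ[A] (Fin m → A)) (f' : (Fin m → A) →ₗ[A] B),
      f'.comp g = f ∧ (tm g).lTensor M z = 0 := by
  obtain ⟨l, a, t, rfl⟩ := TensorProduct.exists_sum_tmul_eq z
  obtain ⟨r, s, k, c, w, h1, h2⟩ := exists_of_sum_eq_zero a (fun i => tm f (t i)) (by simpa [map_sum] using hz)
  obtain ⟨N, f₁, t₁, ht₁⟩ := exists_lift w
  let g₀ : (Fin n → A) →ₗ[A] (Fin (n + N) → A) :=
    (Pi.basisFun A (Fin n)).constr A fun i => Pi.basisFun A (Fin (n + N)) (Fin.castAdd N i)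
  let g₁ : (Fin N → A) →ₗ[A] (Fin (n + N) → A) :=
    (Pi.basisFun A (Fin N)).constr A fun i => Pi.basisFun A (Fin (n + N)) (Fin.natAdd n i)
  let f₀ : (Fin (n + N) → A) →ₗ[A] B := (Pi.basisFun A (Fin (n + N))).constr A
    (Fin.append (fun i => f (Pi.basisFun A (Fin n) i)) fun i => f₁ (Pi.basisFun A (Fin N) i))
  have hg₀ : f₀ ∘ₗ g₀ = f := (Pi.basisFun A (Fin n)).ext fun i => by
    simp only [f₀, g₀, LinearMap.comp_apply, Module.Basis.constr_basis, Fin.append_left]
  have hg₁ : f₀ ∘ₗ g₁ = f₁ := (Pi.basisFun A (Fin N)).ext fun i => by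
    simp only [f₀, g₁, LinearMap.comp_apply, Module.Basis.constr_basis, Fin.append_right]
  obtain ⟨m, g, f', hf, hg⟩ := exists_kill_many (d := d) (Finset.univ : Finset (Fin l ⊕ Fin r)) f₀
    (fun i => tm g₀ (Sum.elim t (fun _ => 0) i) - ∑ j, c i j • tm g₁ (t₁ j)) (fun i _ => by
      simp only [map_sub, map_sum, map_smul, ← tm_comp, hg₀, hg₁, ht₁, ← h1]
      rcases i with i | i <;> simp)
  refine ⟨m, g ∘ₗ g₀, f', by rw [← LinearMap.comp_assoc, hf, hg₀], ?_⟩
  have hg' : ∀ i, tm g (tm g₀ (Sum.elim t (fun _ => 0) i)) = ∑ j, c i j • tm g (tm g₁ (t₁ j)) := fun i => by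
    have := hg i (Finset.mem_univ _)
    simpa only [map_sub, map_sum, map_smul, sub_eq_zero] using this
  calc (tm (g ∘ₗ g₀)).lTensor M (∑ i, a i ⊗ₜ[A] t i)
      = ∑ i, Sum.elim a s i ⊗ₜ[A] tm g (tm g₀ (Sum.elim t (fun _ => 0) i)) := by
        simp [Fintype.sum_sum_type, map_sum, tm_comp]
    _ = ∑ j, (∑ i, c i j • Sum.elim a s i) ⊗ₜ[A] tm g (tm g₁ (t₁ j)) := by
        simp only [hg', TensorProduct.tmul_sum, TensorProduct.sum_tmul, TensorProduct.tmul_smul,
          TensorProduct.smul_tmul']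
        exact Finset.sum_comm
    _ = 0 := by simp [h2]

omit [Module.Flat A B] in
theorem lTensor_tm_comp {X Y Z : Type u} [AddCommGroup X] [Module A X] [AddCommGroup Y] [Module A Y]
    [AddCommGroup Z] [Module A Z] (g : Y →ₗ[A] Z) (f : X →ₗ[A] Y) (x : M ⊗[A] (⨂[A] _ : Fin d, X)) :
    (tm g).lTensor M ((tm f).lTensor M x) = (tm (g ∘ₗ f)).lTensor M x := by
  rw [← LinearMap.lTensor_comp_apply]
  congr 1
  exact congrArg _ (LinearMap.ext fun t => (tm_comp g f t).symm)

/-- The same for finitely many relations. -/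
theorem exists_kill_coeff_many {ι : Type*} (S : Finset ι) {n : ℕ} (f : (Fin n → A) →ₗ[A] B)
    (z : ι → M ⊗[A] (⨂[A] _ : Fin d, (Fin n → A))) (hz : ∀ i ∈ S, (tm f).lTensor M (z i) = 0) :
    ∃ (m : ℕ) (g : (Fin n → A) →ₗ[A] (Fin m → A)) (f' : (Fin m → A) →ₗ[A] B),
      f'.comp g = f ∧ ∀ i ∈ S, (tm g).lTensor M (z i) = 0 := by
  classical
  induction S using Finset.induction_on with
  | empty => exact ⟨n, LinearMap.id, f, rfl, by simp⟩
  | insert i S _ ih =>
    obtain ⟨m, g, f', hf, hg⟩ := ih fun j hj => hz j (Finset.mem_insert_of_mem hj)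
    obtain ⟨m', g', f'', hf', hg'⟩ := exists_kill_coeff f' ((tm g).lTensor M (z i)) (by
      rw [lTensor_tm_comp, hf]
      exact hz i (Finset.mem_insert_self i S))
    refine ⟨m', g' ∘ₗ g, f'', by rw [← LinearMap.comp_assoc, hf', hf], fun j hj => ?_⟩
    rw [← lTensor_tm_comp]
    rcases Finset.mem_insert.1 hj with rfl | hj
    · exact hg'
    · rw [hg j hj, map_zero]

variable (A d) in
/-- The symmetrisation of a tensor over a free module: keep one coordinate in each orbit. -/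
noncomputable def sym (n : ℕ) : (⨂[A] _ : Fin d, (Fin n → A)) →ₗ[A] ⨂[A] _ : Fin d, (Fin n → A) :=
  ∑ ν : degSet (Fin n) d, (co A d n ν).smulRight (orbit A d n ν.1)

theorem sym_apply {n : ℕ} (t : ⨂[A] _ : Fin d, (Fin n → A)) :
    sym A d n t = ∑ ν : degSet (Fin n) d, co A d n ν t • orbit A d n ν.1 := by
  simp [sym]

theorem reindex_sym {n : ℕ} (σ : Equiv.Perm (Fin d)) (t : ⨂[A] _ : Fin d, (Fin n → A)) :
    PiTensorProduct.reindex A (fun _ : Fin d => Fin n → A) σ (sym A d n t) = sym A d n t := by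
  simp only [sym_apply, map_sum, map_smul, reindex_orbit]

theorem sym_of_fixed {n : ℕ} {t : ⨂[A] _ : Fin d, (Fin n → A)}
    (ht : ∀ σ : Equiv.Perm (Fin d), PiTensorProduct.reindex A (fun _ : Fin d => Fin n → A) σ t = t) :
    sym A d n t = t :=
  (sym_apply t).trans (eq_sum_orbit ht).symm

/-- For a free module the symmetrisation fixes the fixed elements of `M ⊗ F^⊗d`. -/
theorem lTensor_sym_of_fixed {n : ℕ} {z : M ⊗[A] (⨂[A] _ : Fin d, (Fin n → A))}
    (hz : ∀ σ : Equiv.Perm (Fin d),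
      (PiTensorProduct.reindex A (fun _ : Fin d => Fin n → A) σ).toLinearMap.lTensor M z = z) :
    (sym A d n).lTensor M z = z := by
  classical
  have hE : ∀ (L : (⨂[A] _ : Fin d, (Fin n → A)) →ₗ[A] ⨂[A] _ : Fin d, (Fin n → A)) (q q' : Fin d → Fin n),
      (∀ t, (bT A d n).repr (L t) q = (bT A d n).repr t q') → ∀ x : M ⊗[A] (⨂[A] _ : Fin d, (Fin n → A)),
        TensorProduct.equivFinsuppOfBasisRight (bT A d n) (L.lTensor M x) q =
          TensorProduct.equivFinsuppOfBasisRight (bT A d n) x q' := by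
    intro L q q' h x
    induction x using TensorProduct.induction_on with
    | zero => simp
    | add x y hx hy => simp only [map_add, Finsupp.add_apply, hx, hy]
    | tmul a t => simp only [LinearMap.lTensor_tmul, TensorProduct.equivFinsuppOfBasisRight_apply_tmul_apply, h]
  refine (TensorProduct.equivFinsuppOfBasisRight (bT A d n)).injective (Finsupp.ext fun q => ?_)
  let c := (Tpow.exists_cnt d (Tpow.cnt q) (Tpow.sum_cnt q)).choose
  obtain ⟨σ, hσ⟩ := Tpow.exists_perm (Tpow.exists_cnt d (Tpow.cnt q) (Tpow.sum_cnt q)).choose_spec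
  rw [hE (sym A d n) q c fun t => by
    simp only [sym_apply, map_sum, map_smul, Finsupp.finsetSum_apply, Finsupp.smul_apply, repr_orbit, smul_eq_mul]
    rw [Finset.sum_eq_single (⟨Tpow.cnt q, mem_degSet.2 (Tpow.sum_cnt q)⟩ : degSet (Fin n) d)]
    · rw [if_pos rfl, mul_one]
      rfl
    · intro ν _ hν
      rw [if_neg fun h : Tpow.cnt q = ν.1 => hν (Subtype.ext h.symm), mul_zero]
    · simp]
  conv_rhs => rw [← hσ, ← hE _ c (c ∘ σ) (repr_reindex σ · c), hz]

variable (T : Submodule A (⨂[A] _ : Fin d, B))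
  (hT : ∀ t, t ∈ T ↔ ∀ σ : Equiv.Perm (Fin d), PiTensorProduct.reindex A (fun _ : Fin d => B) σ t = t)

include hT in
/-- Symmetric tensors of a flat module remain inside the tensor power after tensoring. -/
theorem lTensor_subtype_injective : Function.Injective (T.subtype.lTensor M) := by
  refine (injective_iff_map_eq_zero _).2 fun z hz => ?_
  obtain ⟨l, a, y, rfl⟩ := TensorProduct.exists_sum_tmul_eq z
  obtain ⟨n, f, t, htf, hti, -⟩ := exists_symm_lift (fun i => (y i : ⨂[A] _ : Fin d, B))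
    (fun i => (hT _).1 (y i).2) 0 (by simp)
  obtain ⟨m, g, f', hf, hg⟩ := exists_kill_coeff f (∑ i, a i ⊗ₜ[A] t i)
    (by simpa [map_sum, htf] using hz)
  let Φ : (⨂[A] _ : Fin d, (Fin m → A)) →ₗ[A] T := (tm f' ∘ₗ sym A d m).codRestrict T fun x => (hT _).2 fun σ => by
    rw [LinearMap.comp_apply, ← tm_reindex, reindex_sym]
  have hΦ : ∀ i, Φ (tm g (t i)) = y i := fun i => Subtype.ext <| by
    show tm f' (sym A d m (tm g (t i))) = y i
    rw [sym_of_fixed fun σ => by rw [← tm_reindex, hti], ← tm_comp, hf, htf]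
  have := congrArg (Φ.lTensor M) hg
  simpa [map_sum, hΦ] using this

include hT in
/-- The fixed elements of `M ⊗ B^⊗d` come from symmetric tensors, for a flat module `B`. -/
theorem mem_range_of_fixed {z : M ⊗[A] (⨂[A] _ : Fin d, B)}
    (hz : ∀ σ : Equiv.Perm (Fin d),
      (PiTensorProduct.reindex A (fun _ : Fin d => B) σ).toLinearMap.lTensor M z = z) :
    z ∈ Set.range (T.subtype.lTensor M) := by
  classical
  obtain ⟨l, a, y, rfl⟩ := TensorProduct.exists_sum_tmul_eq z
  obtain ⟨n, f, t, ht⟩ := exists_lift y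
  let Z := ∑ i, a i ⊗ₜ[A] t i
  have hZ : (tm f).lTensor M Z = ∑ i, a i ⊗ₜ[A] y i := by simp [Z, map_sum, ht]
  have hcomm : ∀ {p : ℕ} (h : (Fin p → A) →ₗ[A] B) (σ : Equiv.Perm (Fin d)) (x : M ⊗[A] (⨂[A] _ : Fin d, (Fin p → A))),
      (tm h).lTensor M ((PiTensorProduct.reindex A (fun _ : Fin d => Fin p → A) σ).toLinearMap.lTensor M x) =
        (PiTensorProduct.reindex A (fun _ : Fin d => B) σ).toLinearMap.lTensor M ((tm h).lTensor M x) := by
    intro p h σ x
    rw [← LinearMap.lTensor_comp_apply, ← LinearMap.lTensor_comp_apply]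
    congr 1
    exact congrArg _ (LinearMap.ext fun u => tm_reindex h σ u)
  obtain ⟨m, g, f', hf, hg⟩ := exists_kill_coeff_many (Finset.univ : Finset (Equiv.Perm (Fin d))) f
    (fun σ => (PiTensorProduct.reindex A (fun _ : Fin d => Fin n → A) σ).toLinearMap.lTensor M Z - Z)
    (fun σ _ => by rw [map_sub, hcomm, hZ, hz, sub_self])
  have hfix : (sym A d m).lTensor M ((tm g).lTensor M Z) = (tm g).lTensor M Z := lTensor_sym_of_fixed fun σ => by
    have h0 := hg σ (Finset.mem_univ _)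
    rw [map_sub, sub_eq_zero] at h0
    refine Eq.trans ?_ h0
    rw [← LinearMap.lTensor_comp_apply, ← LinearMap.lTensor_comp_apply]
    congr 1
    exact congrArg _ (LinearMap.ext fun u => (tm_reindex g σ u).symm)
  let Φ : (⨂[A] _ : Fin d, (Fin m → A)) →ₗ[A] T := (tm f' ∘ₗ sym A d m).codRestrict T fun x => (hT _).2 fun σ => by
    rw [LinearMap.comp_apply, ← tm_reindex, reindex_sym]
  refine ⟨Φ.lTensor M ((tm g).lTensor M Z), ?_⟩
  rw [← LinearMap.lTensor_comp_apply, show T.subtype ∘ₗ Φ = tm f' ∘ₗ sym A d m from LinearMap.subtype_comp_codRestrict _ _ _,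
    LinearMap.lTensor_comp_apply, hfix, lTensor_tm_comp, hf, hZ]

end Groth.Agent.H81.SymProd.TensorBC
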