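import Groth.Agent.H81.SymProd.Ring
import Groth.Agent.H81.SymProd.TensorBC
import Groth.Agent.Lib.SchQuot.Local
import Mathlib.AlgebraicGeometry.Morphisms.Flat
import Mathlib.AlgebraicGeometry.Morphisms.IsIso

/-!
Rings of symmetric products, and base change of quotients.
-/

universe u

open CategoryTheory CategoryTheory.Limits AlgebraicGeometry TopologicalSpace
open scoped TensorProduct

namespace Groth.Agent.H81.SymProd.Quot

open Groth.Agent.H81.SymProd.Chart Groth.Agent.H81.SymProd.Ring Groth.Agent.Lib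

section General

variable {X Y : Scheme.{u}} {G : Type u} [Group G] {ρ : G →* Aut X} {p : X ⟶ Y}

theorem app_range (hp : SGA1.IsQuot ρ p) {U : Y.Opens} {W : X.Opens} (e : p ⁻¹ᵁ U = W)
    (hW : ∀ g, W ≤ (ρ g).hom ⁻¹ᵁ W) :
    Function.Injective (p.appLE U W e.ge).hom ∧
      ∀ s, s ∈ Set.range (p.appLE U W e.ge).hom ↔ ∀ g, (ρ g).hom.appLE W W (hW g) s = s := by
  subst e
  rw [← Scheme.Hom.app_eq_appLE]
  exact ⟨hp.injective U, hp.range_iff U⟩

theorem appLE_of_eq_id {f : X ⟶ X} (h : f = 𝟙 X) (W : X.Opens) (e : W ≤ f ⁻¹ᵁ W) (s : Γ(X, W)) :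
    f.appLE W W e s = s := by
  subst h
  have h1 : (𝟙 X : X ⟶ X).appLE W W e = 𝟙 Γ(X, W) := by
    simp only [Scheme.Hom.appLE, Scheme.Hom.id_app]
    exact X.presheaf.map_id _
  rw [h1]
  rfl

set_option backward.isDefEq.respectTransparency false in
theorem isIso_of_subsingleton [Subsingleton G] (hp : SGA1.IsQuot ρ p) : IsIso p := by
  have := hp.affine
  have hb : ∀ U, IsIso (p.app U) := fun U => (ConcreteCategory.isIso_iff_bijective _).2 ⟨hp.injective U,
    fun s => (hp.range_iff U s).2 fun g => appLE_of_eq_id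
      (by rw [Subsingleton.elim g 1, SchQuot.IsQuot.hom_one]) _ _ s⟩
  show MorphismProperty.isomorphisms Scheme p
  refine (HasAffineProperty.iff_of_iSup_eq_top (P := MorphismProperty.isomorphisms Scheme)
    (fun U : Y.affineOpens => U) (iSup_affineOpens_eq_top Y)).2 fun U => ⟨U.2.preimage p, ?_⟩
  rw [morphismRestrict_appTop]
  infer_instance

theorem isQuot_of_isIso [Subsingleton G] (ρ : G →* Aut X) (p : X ⟶ Y) [IsIso p] : SGA1.IsQuot ρ p := by
  have h1 : ∀ g, (ρ g).hom = 𝟙 X := fun g => by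
    rw [Subsingleton.elim g 1, SchQuot.IsQuot.hom_one]
  refine ⟨inferInstance, fun g => by rw [h1, Category.id_comp],
    fun U => (ConcreteCategory.bijective_of_isIso (p.app U)).1,
    fun U s => ⟨fun _ g => appLE_of_eq_id (h1 g) _ _ s,
      fun _ => (ConcreteCategory.bijective_of_isIso (p.app U)).2 s⟩⟩

end General

section Algebra

/-- Fixed points after base change, from the corresponding fact for `R' ⊗ C`. -/
theorem range_of_lTensor {ι R R' E C E' C' : Type u} [CommRing R] [CommRing R'] [CommRing E] [CommRing C]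
    [CommRing E'] [CommRing C'] [Algebra R R'] [Algebra R E] [Algebra R C] [Algebra R' E'] [Algebra E E']
    [Algebra R E'] [Algebra R' C'] [Algebra C C'] [Algebra R C'] [IsScalarTower R R' E'] [IsScalarTower R E E']
    [IsScalarTower R R' C'] [IsScalarTower R C C'] [Algebra.IsPushout R R' E E'] [Algebra.IsPushout R R' C C']
    (κ : E →ₐ[R] C) (κ' : E' →ₐ[R'] C') (hκ : ∀ e, κ' (algebraMap E E' e) = algebraMap C C' (κ e))
    (σ : ι → (C →ₐ[R] C)) (σ' : ι → (C' →ₐ[R'] C'))
    (hσ : ∀ i c, σ' i (algebraMap C C' c) = algebraMap C C' (σ i c))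
    (hinj : Function.Injective (κ.toLinearMap.lTensor R'))
    (hfix : ∀ z, (∀ i, (σ i).toLinearMap.lTensor R' z = z) → z ∈ Set.range (κ.toLinearMap.lTensor R')) :
    Function.Injective κ' ∧ ∀ s, (∀ i, σ' i s = s) → s ∈ Set.range κ' := by
  let e₁ := Algebra.IsPushout.equiv R R' E E'
  let e₂ := Algebra.IsPushout.equiv R R' C C'
  have h₁ : ∀ z, κ' (e₁ z) = e₂ (κ.toLinearMap.lTensor R' z) := fun z => by
    induction z using TensorProduct.induction_on with
    | zero => simp
    | add x y hx hy => simp only [map_add, hx, hy]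
    | tmul r e =>
      rw [LinearMap.lTensor_tmul, Algebra.IsPushout.equiv_tmul, Algebra.IsPushout.equiv_tmul, map_mul,
        AlgHom.commutes, hκ]
      rfl
  have h₂ : ∀ i z, σ' i (e₂ z) = e₂ ((σ i).toLinearMap.lTensor R' z) := fun i z => by
    induction z using TensorProduct.induction_on with
    | zero => simp
    | add x y hx hy => simp only [map_add, hx, hy]
    | tmul r e =>
      rw [LinearMap.lTensor_tmul, Algebra.IsPushout.equiv_tmul, Algebra.IsPushout.equiv_tmul, map_mul,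
        AlgHom.commutes, hσ]
      rfl
  refine ⟨fun a b hab => ?_, fun s hs => ?_⟩
  · obtain ⟨a, rfl⟩ := e₁.surjective a
    obtain ⟨b, rfl⟩ := e₁.surjective b
    rw [h₁, h₁] at hab
    rw [hinj (e₂.injective hab)]
  · obtain ⟨z, rfl⟩ := e₂.surjective s
    obtain ⟨w, rfl⟩ := hfix z fun i => e₂.injective ((h₂ i z).symm.trans (hs i))
    exact ⟨e₁ w, h₁ w⟩

end Algebra

section Chart

variable {X S Y : Scheme.{u}} (f : X ⟶ S) (d : ℕ) {q : SymProd.fibPow f d ⟶ Y} {g : Y ⟶ S}

theorem le_base_of_chart (hq : SymProd.IsSymProd f d q g) (hd : 0 < d) {U : X.Opens} {V : S.Opens}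
    (hUV : U ≤ f ⁻¹ᵁ V) {W' : Y.Opens} (hW' : q ⁻¹ᵁ W' = box f d U) : W' ≤ g ⁻¹ᵁ V := by
  intro y hy
  obtain ⟨x, rfl⟩ := SchQuot.IsQuot.surjective hq.isQuot y
  have h := box_le_base f d hd hUV (show x ∈ box f d U from hW' ▸ hy)
  rw [show base f d = q ≫ g from hq.over.symm] at h
  exact h

/-- On a chart the sections of the symmetric product are the symmetric tensors. -/
theorem exists_algHom (hq : SymProd.IsSymProd f d q g) (hd : 0 < d) {U : X.Opens} (hU : IsAffineOpen U)
    {V : S.Opens} (hV : IsAffineOpen V) (hUV : U ≤ f ⁻¹ᵁ V) {W' : Y.Opens} (hW' : q ⁻¹ᵁ W' = box f d U)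
    [alg : Algebra Γ(S, V) Γ(X, U)] (halg : algebraMap Γ(S, V) Γ(X, U) = (f.appLE V U hUV).hom)
    [algE : Algebra Γ(S, V) Γ(Y, W')]
    (halgE : algebraMap Γ(S, V) Γ(Y, W') = (g.appLE V W' (le_base_of_chart f d hq hd hUV hW')).hom) :
    ∃ (Φ : (⨂[Γ(S, V)] _ : Fin d, Γ(X, U)) →+* Γ(SymProd.fibPow f d, box f d U))
      (L : Γ(Y, W') →ₐ[Γ(S, V)] ⨂[Γ(S, V)] _ : Fin d, Γ(X, U)),
      Function.Bijective Φ ∧
      (∀ r : Γ(S, V), Φ (algebraMap Γ(S, V) _ r) =
        (base f d).appLE V (box f d U) (box_le_base f d hd hUV) r) ∧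
      (∀ (σ : Equiv.Perm (Fin d)) (t : ⨂[Γ(S, V)] _ : Fin d, Γ(X, U)),
        (SymProd.permHom f d σ).appLE (box f d U) (box f d U) (box_stable f d U σ).ge (Φ t) =
          Φ (PiTensorProduct.reindex Γ(S, V) (fun _ : Fin d => Γ(X, U)) σ.symm t)) ∧
      Function.Injective L ∧ (∀ y, Φ (L y) = q.appLE W' (box f d U) hW'.ge y) ∧
      ∀ t, t ∈ LinearMap.range L.toLinearMap ↔
        ∀ σ : Equiv.Perm (Fin d), PiTensorProduct.reindex Γ(S, V) (fun _ : Fin d => Γ(X, U)) σ t = t := by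
  obtain ⟨Φ, hΦ, -, hr, hperm⟩ := exists_ringHom f d hd hU hV hUV halg
  have hWst : ∀ σ : ULift.{u} (Equiv.Perm (Fin d)),
      box f d U ≤ (SymProd.permActU f d σ).hom ⁻¹ᵁ box f d U := fun σ => (box_stable f d U σ.down).ge
  obtain ⟨hinj, hrange⟩ := app_range hq.isQuot hW' hWst
  let e := RingEquiv.ofBijective Φ hΦ
  let L : Γ(Y, W') →ₐ[Γ(S, V)] ⨂[Γ(S, V)] _ : Fin d, Γ(X, U) :=
    { __ := e.symm.toRingHom.comp (q.appLE W' (box f d U) hW'.ge).hom
      commutes' := fun r => hΦ.1 (by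
        show Φ (e.symm ((q.appLE W' (box f d U) hW'.ge).hom (algebraMap Γ(S, V) Γ(Y, W') r))) = _
        rw [hr, halgE, show Φ (e.symm _) = _ from e.apply_symm_apply _, ← CommRingCat.comp_apply,
          Scheme.Hom.appLE_comp_appLE]
        simp only [hq.over]) }
  have hL : ∀ y, Φ (L y) = q.appLE W' (box f d U) hW'.ge y := fun y => e.apply_symm_apply _
  refine ⟨Φ, L, hΦ, hr, hperm, fun a b h => hinj (by rw [← hL, ← hL, h]), hL, fun t => ?_⟩
  have h := hrange (Φ t)
  simp only [SymProd.permActU_hom, hperm] at h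
  constructor
  · rintro ⟨y, rfl⟩ σ
    have := hΦ.1 (h.1 ⟨y, (hL y).symm⟩ ⟨σ.symm⟩)
    simpa using this
  · intro ht
    obtain ⟨y, hy⟩ := h.2 fun σ => by rw [ht]
    exact ⟨y, hΦ.1 ((hL y).trans hy)⟩

/-- The symmetric product of a flat morphism is flat. -/
theorem flat_appLE (hq : SymProd.IsSymProd f d q g) [Flat f] (hd : 0 < d) {U : X.Opens} (hU : IsAffineOpen U)
    {V : S.Opens} (hV : IsAffineOpen V) (hUV : U ≤ f ⁻¹ᵁ V) {W' : Y.Opens} (hW' : q ⁻¹ᵁ W' = box f d U) :
    RingHom.Flat (g.appLE V W' (le_base_of_chart f d hq hd hUV hW')).hom := by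
  let := (f.appLE V U hUV).hom.toAlgebra
  let := (g.appLE V W' (le_base_of_chart f d hq hd hUV hW')).hom.toAlgebra
  have : Module.Flat Γ(S, V) Γ(X, U) := f.flat_appLE hV hU hUV
  obtain ⟨Φ, L, -, -, -, hL, -, hT⟩ := exists_algHom f d hq hd hU hV hUV hW' rfl rfl
  have := PolLaw.FlatSym.flat_of_forall _ hT
  exact Module.Flat.of_linearEquiv (LinearEquiv.ofInjective L.toLinearMap hL)

end Chart

section BaseChange

variable {X S S' Y : Scheme.{u}} (f : X ⟶ S) (d : ℕ) (b : S' ⟶ S)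
  (c : SymProd.fibPow (pullback.snd f b) d ⟶ SymProd.fibPow f d)
  (hcπ : ∀ i : Fin d, c ≫ pr f d i = pr (pullback.snd f b) d i ≫ pullback.fst f b)
  (hcb : c ≫ base f d = base (pullback.snd f b) d ≫ b)

include hcπ hcb

theorem isPullback_fibPow : IsPullback c (base (pullback.snd f b) d) (base f d) b := by
  refine ⟨⟨hcb⟩, ⟨PullbackCone.IsLimit.mk hcb
    (fun s => WidePullback.lift s.snd (fun i => pullback.lift (s.fst ≫ pr f d i) s.snd (by
      rw [Category.assoc, WidePullback.π_arrow]; exact s.condition)) fun i => pullback.lift_snd _ _ _)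
    (fun s => ?_) (fun s => WidePullback.lift_base _ _ _ _) fun s m h1 h2 => ?_⟩⟩
  · refine WidePullback.hom_ext _ _ _ (fun i => ?_) ?_
    · rw [Category.assoc, hcπ, WidePullback.lift_π_assoc, pullback.lift_fst]
    · rw [Category.assoc, hcb, WidePullback.lift_base_assoc]
      exact s.condition.symm
  · refine WidePullback.hom_ext _ _ _ (fun i => ?_) ?_
    · rw [WidePullback.lift_π]
      refine pullback.hom_ext ?_ ?_
      · rw [pullback.lift_fst, Category.assoc, ← hcπ, ← Category.assoc, h1]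
      · rw [pullback.lift_snd, Category.assoc, WidePullback.π_arrow, h2]
    · rw [WidePullback.lift_base, h2]

theorem perm_comp (σ : Equiv.Perm (Fin d)) :
    SymProd.permHom (pullback.snd f b) d σ ≫ c = c ≫ SymProd.permHom f d σ := by
  refine WidePullback.hom_ext _ _ _ (fun i => ?_) ?_
  · rw [Category.assoc, Category.assoc, hcπ, SymProd.permHom_π, hcπ, SymProd.permHom_π_assoc]
  · rw [Category.assoc, Category.assoc, hcb, SymProd.permHom_base, hcb, SymProd.permHom_base_assoc]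

end BaseChange

end Groth.Agent.H81.SymProd.Quot
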