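import Groth.Agent.H81.SymProd.Chart
import Groth.Agent.Lib.PolLaw.SymPoints

/-!
The ring of the box of an affine open is the tensor power.
-/

universe u

open CategoryTheory CategoryTheory.Limits AlgebraicGeometry
open scoped TensorProduct

namespace Groth.Agent.H81.SymProd.Ring

open Groth.Agent.H81.SymProd.Chart Groth.Agent.Lib.PolLaw

variable {X S : Scheme.{u}} (f : X ⟶ S) (d : ℕ)

theorem box_le_base (hd : 0 < d) {U : X.Opens} {V : S.Opens} (hUV : U ≤ f ⁻¹ᵁ V) :
    box f d U ≤ base f d ⁻¹ᵁ V := fun x hx => by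
  change base f d x ∈ V
  rw [show base f d = pr f d ⟨0, hd⟩ ≫ f from (WidePullback.π_arrow _ _).symm, Scheme.Hom.comp_apply]
  exact hUV ((mem_box f d).1 hx _)

theorem box_le_pr (U : X.Opens) (i : Fin d) : box f d U ≤ pr f d i ⁻¹ᵁ U := fun _ hx => (mem_box f d).1 hx i

/-- The sections on the box are the tensor power, compatibly with the projections and the permutations. -/
theorem exists_ringHom (hd : 0 < d) {U : X.Opens} (hU : IsAffineOpen U) {V : S.Opens} (hV : IsAffineOpen V)
    (hUV : U ≤ f ⁻¹ᵁ V) [alg : Algebra Γ(S, V) Γ(X, U)]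
    (halg : algebraMap Γ(S, V) Γ(X, U) = (f.appLE V U hUV).hom) :
    ∃ Φ : (⨂[Γ(S, V)] _ : Fin d, Γ(X, U)) →+* Γ(SymProd.fibPow f d, box f d U), Function.Bijective Φ ∧
      (∀ (i : Fin d) (b : Γ(X, U)),
        Φ (PiTensorProduct.singleAlgHom (R := Γ(S, V)) (A := fun _ : Fin d => Γ(X, U)) i b) =
          (pr f d i).appLE U (box f d U) (box_le_pr f d U i) b) ∧
      (∀ r : Γ(S, V), Φ (algebraMap Γ(S, V) _ r) =
        (base f d).appLE V (box f d U) (box_le_base f d hd hUV) r) ∧
      ∀ (σ : Equiv.Perm (Fin d)) (t : ⨂[Γ(S, V)] _ : Fin d, Γ(X, U)),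
        (SymProd.permHom f d σ).appLE (box f d U) (box f d U) (box_stable f d U σ).ge (Φ t) =
          Φ (PiTensorProduct.reindex Γ(S, V) (fun _ : Fin d => Γ(X, U)) σ.symm t) := by
  have haff := isAffineOpen_box f d hU hV hUV hd
  have hle := box_le_base f d hd hUV
  letI algC : Algebra Γ(S, V) Γ(SymProd.fibPow f d, box f d U) :=
    ((base f d).appLE V (box f d U) hle).hom.toAlgebra
  have hpr : ∀ i : Fin d, f.appLE V U hUV ≫ (pr f d i).appLE U (box f d U) (box_le_pr f d U i) =
      (base f d).appLE V (box f d U) hle := fun i => by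
    rw [Scheme.Hom.appLE_comp_appLE]
    simp only [show pr f d i ≫ f = base f d from WidePullback.π_arrow _ _]
  let p : Fin d → (Γ(X, U) →ₐ[Γ(S, V)] Γ(SymProd.fibPow f d, box f d U)) := fun i =>
    { __ := ((pr f d i).appLE U (box f d U) (box_le_pr f d U i)).hom
      commutes' := fun r => by
        show (pr f d i).appLE U (box f d U) (box_le_pr f d U i) (algebraMap Γ(S, V) Γ(X, U) r) = _
        rw [halg, ← CommRingCat.comp_apply, hpr]
        rfl }
  let Φ := SymPoints.prodLift p
  have hΦ : ∀ i b, Φ (PiTensorProduct.singleAlgHom (R := Γ(S, V)) (A := fun _ : Fin d => Γ(X, U)) i b) =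
      (pr f d i).appLE U (box f d U) (box_le_pr f d U i) b := fun i b => SymPoints.prodLift_single p i b
  let T : CommRingCat.{u} := CommRingCat.of (⨂[Γ(S, V)] _ : Fin d, Γ(X, U))
  let φ : T ⟶ Γ(SymProd.fibPow f d, box f d U) := CommRingCat.ofHom Φ.toRingHom
  let si : Fin d → (Γ(X, U) ⟶ T) := fun i => CommRingCat.ofHom
    (PiTensorProduct.singleAlgHom (R := Γ(S, V)) (A := fun _ : Fin d => Γ(X, U)) i).toRingHom
  let st : Γ(S, V) ⟶ T := CommRingCat.ofHom (algebraMap Γ(S, V) _)
  have hst : ∀ i, f.appLE V U hUV ≫ si i = st := fun i => CommRingCat.hom_ext <| RingHom.ext fun r => by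
    show PiTensorProduct.singleAlgHom (R := Γ(S, V)) (A := fun _ : Fin d => Γ(X, U)) i
      ((f.appLE V U hUV).hom r) = algebraMap Γ(S, V) _ r
    rw [← halg, AlgHom.commutes]
  have hsi : ∀ i, si i ≫ φ = (pr f d i).appLE U (box f d U) (box_le_pr f d U i) := fun i =>
    CommRingCat.hom_ext <| RingHom.ext (hΦ i)
  have hstφ : st ≫ φ = (base f d).appLE V (box f d U) hle := CommRingCat.hom_ext <| RingHom.ext Φ.commutes
  let β₀ : Spec T ⟶ SymProd.fibPow f d :=
    WidePullback.lift (Spec.map st ≫ hV.fromSpec) (fun i => Spec.map (si i) ≫ hU.fromSpec) (fun i => by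
      rw [Category.assoc, ← hV.SpecMap_appLE_fromSpec f hU hUV, ← Spec.map_comp_assoc, hst])
  have hβ₀ : Set.range β₀ ⊆ Set.range (box f d U).ι := by
    rw [Scheme.Opens.range_ι]
    rintro _ ⟨z, rfl⟩
    refine (mem_box f d).2 fun i => ?_
    rw [← Scheme.Hom.comp_apply, WidePullback.lift_π]
    exact hU.range_fromSpec.le ⟨_, rfl⟩
  let β : Spec T ⟶ Spec Γ(SymProd.fibPow f d, box f d U) :=
    IsOpenImmersion.lift (box f d U).ι β₀ hβ₀ ≫ haff.isoSpec.hom
  have hβ : β ≫ haff.fromSpec = β₀ := by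
    rw [Category.assoc, IsAffineOpen.fromSpec, Iso.hom_inv_id_assoc, IsOpenImmersion.lift_fac]
  obtain ⟨ψ, hψ⟩ : ∃ ψ : Γ(SymProd.fibPow f d, box f d U) ⟶ T, Spec.map ψ = β :=
    ⟨Spec.preimage β, Spec.map_preimage β⟩
  have h1 : ψ ≫ φ = 𝟙 _ := Spec.map_injective <| by
    rw [Spec.map_comp, hψ, Spec.map_id, ← cancel_mono haff.fromSpec, Category.assoc, hβ, Category.id_comp]
    refine WidePullback.hom_ext _ _ _ (fun i => ?_) ?_
    · rw [Category.assoc, WidePullback.lift_π, ← Spec.map_comp_assoc, hsi]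
      exact hU.SpecMap_appLE_fromSpec (pr f d i) haff _
    · rw [Category.assoc, WidePullback.lift_base, ← Spec.map_comp_assoc, hstφ]
      exact hV.SpecMap_appLE_fromSpec (base f d) haff _
  have hgen : ∀ i, (pr f d i).appLE U (box f d U) (box_le_pr f d U i) ≫ ψ = si i := fun i =>
    Spec.map_injective <| by
      rw [← cancel_mono hU.fromSpec, Spec.map_comp, Category.assoc, hU.SpecMap_appLE_fromSpec (pr f d i) haff _,
        hψ, ← Category.assoc, hβ, WidePullback.lift_π]
  have hbase : (base f d).appLE V (box f d U) hle ≫ ψ = st := Spec.map_injective <| by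
      rw [← cancel_mono hV.fromSpec, Spec.map_comp, Category.assoc, hV.SpecMap_appLE_fromSpec (base f d) haff _,
        hψ, ← Category.assoc, hβ, WidePullback.lift_base]
  let ψA : Γ(SymProd.fibPow f d, box f d U) →ₐ[Γ(S, V)] ⨂[Γ(S, V)] _ : Fin d, Γ(X, U) :=
    { __ := ψ.hom, commutes' := fun r => congr($(hbase) r) }
  have h2 : ψA.comp Φ = AlgHom.id _ _ := PiTensorProduct.algHom_ext fun i => AlgHom.ext fun b => by
    show ψ (Φ (PiTensorProduct.singleAlgHom (R := Γ(S, V)) (A := fun _ : Fin d => Γ(X, U)) i b)) = _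
    rw [hΦ, ← CommRingCat.comp_apply, hgen]
    rfl
  refine ⟨Φ.toRingHom, ⟨Function.LeftInverse.injective (g := ψA) fun t => AlgHom.congr_fun h2 t,
    fun y => ⟨ψ y, congr($(h1) y)⟩⟩, hΦ, Φ.commutes, fun σ t => ?_⟩
  let τ : Γ(SymProd.fibPow f d, box f d U) →ₐ[Γ(S, V)] Γ(SymProd.fibPow f d, box f d U) :=
    { __ := ((SymProd.permHom f d σ).appLE (box f d U) (box f d U) (box_stable f d U σ).ge).hom
      commutes' := fun r => by
        show (SymProd.permHom f d σ).appLE (box f d U) (box f d U) (box_stable f d U σ).ge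
          ((base f d).appLE V (box f d U) hle r) = (base f d).appLE V (box f d U) hle r
        rw [← CommRingCat.comp_apply, Scheme.Hom.appLE_comp_appLE]
        simp only [SymProd.permHom_base] }
  have h3 : τ.comp Φ = Φ.comp (SymTen.perm Γ(S, V) Γ(X, U) d σ.symm) :=
    PiTensorProduct.algHom_ext fun i => AlgHom.ext fun b => by
      simp only [AlgHom.comp_apply, SymPoints.perm_single, hΦ]
      show (SymProd.permHom f d σ).appLE (box f d U) (box f d U) (box_stable f d U σ).ge
        ((pr f d i).appLE U (box f d U) (box_le_pr f d U i) b) = _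
      rw [← CommRingCat.comp_apply, Scheme.Hom.appLE_comp_appLE]
      simp only [SymProd.permHom_π]
  rw [← SymTen.perm_apply]
  exact AlgHom.congr_fun h3 t

end Groth.Agent.H81.SymProd.Ring
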